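import Groth.Agent.H66.Cartan.Field
import Groth.Prelude.Def_W4sga3xiixivxvCartan
import Mathlib

/-! Fibres of a Lie algebra over a ring. -/

set_option autoImplicit false
set_option linter.unusedSectionVars false

universe u

open TensorProduct Module LieAlgebra LieSubalgebra

namespace Groth.Agent.H66.Cartan

noncomputable section

attribute [local instance 100] LieRing.ofAssociativeRing

variable {A : Type u} [CommRing A] {L : Type u} [LieRing L] [LieAlgebra A L] [Module.Finite A L]

variable (L) in
/-- The nilpotent rank of the fibre at a prime. -/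
def rk (p : PrimeSpectrum A) : ℕ :=
  LieAlgebra.rank p.asIdeal.ResidueField (p.asIdeal.ResidueField ⊗[A] L)

variable (A) in
/-- The point of `Spec A` under a field. -/
def pt (K : Type u) [Field K] [Algebra A K] : PrimeSpectrum A :=
  ⟨RingHom.ker (algebraMap A K), RingHom.ker_isPrime _⟩

/-- The residue field of the point under a field. -/
def ptHom (K : Type u) [Field K] [Algebra A K] : (pt A K).asIdeal.ResidueField →ₐ[A] K :=
  Ideal.ResidueField.liftₐ (pt A K).asIdeal (Algebra.ofId A K) le_rfl
    fun _ hx => isUnit_iff_ne_zero.2 hx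

theorem rank_at (K : Type u) [Field K] [Algebra A K] : LieAlgebra.rank K (K ⊗[A] L) = rk L (pt A K) := by
  letI : Algebra (pt A K).asIdeal.ResidueField K := (ptHom (A := A) K).toRingHom.toAlgebra
  haveI : IsScalarTower A (pt A K).asIdeal.ResidueField K :=
    IsScalarTower.of_algebraMap_eq fun r => ((ptHom (A := A) K).commutes r).symm
  rw [← rank_congr (cancelEquiv (A := A) (B := (pt A K).asIdeal.ResidueField) (L := L) K), rank_baseChange]
  rfl

theorem regular_at (K : Type u) [Field K] [Algebra A K] (x : L) :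
    LieAlgebra.IsRegular K ((1 : K) ⊗ₜ[A] x) ↔
      LieAlgebra.IsRegular (pt A K).asIdeal.ResidueField ((1 : (pt A K).asIdeal.ResidueField) ⊗ₜ[A] x) := by
  letI : Algebra (pt A K).asIdeal.ResidueField K := (ptHom (A := A) K).toRingHom.toAlgebra
  haveI : IsScalarTower A (pt A K).asIdeal.ResidueField K :=
    IsScalarTower.of_algebraMap_eq fun r => ((ptHom (A := A) K).commutes r).symm
  have h := (isRegular_congr (cancelEquiv (A := A) (B := (pt A K).asIdeal.ResidueField) (L := L) K)
    ((1 : K) ⊗ₜ[(pt A K).asIdeal.ResidueField] ((1 : (pt A K).asIdeal.ResidueField) ⊗ₜ[A] x))).trans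
      (isRegular_baseChange K _)
  rwa [cancelEquiv_tmul, one_smul] at h

theorem pt_eq_comap {B : Type u} [CommRing B] [Algebra A B] (K : Type u) [Field K] [Algebra A K] [Algebra B K]
    [IsScalarTower A B K] : pt A K = PrimeSpectrum.comap (algebraMap A B) (pt B K) := by
  refine PrimeSpectrum.ext ?_
  show RingHom.ker (algebraMap A K) = (RingHom.ker (algebraMap B K)).comap (algebraMap A B)
  rw [RingHom.comap_ker, ← IsScalarTower.algebraMap_eq]

theorem pt_residueField {B : Type u} [CommRing B] (q : PrimeSpectrum B) : pt B q.asIdeal.ResidueField = q :=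
  PrimeSpectrum.ext (Ideal.ker_algebraMap_residueField _)

theorem rk_baseChange {B : Type u} [CommRing B] [Algebra A B] (q : PrimeSpectrum B) :
    rk (B ⊗[A] L) q = rk L (PrimeSpectrum.comap (algebraMap A B) q) := by
  show LieAlgebra.rank q.asIdeal.ResidueField (q.asIdeal.ResidueField ⊗[B] (B ⊗[A] L)) = _
  rw [rank_congr (cancelEquiv (A := A) (B := B) (L := L) q.asIdeal.ResidueField), rank_at,
    pt_eq_comap (B := B), pt_residueField]

theorem regular_baseChange {B : Type u} [CommRing B] [Algebra A B] (q : PrimeSpectrum B) (x : L) :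
    LieAlgebra.IsRegular q.asIdeal.ResidueField ((1 : q.asIdeal.ResidueField) ⊗ₜ[B] ((1 : B) ⊗ₜ[A] x)) ↔
      LieAlgebra.IsRegular (PrimeSpectrum.comap (algebraMap A B) q).asIdeal.ResidueField
        ((1 : (PrimeSpectrum.comap (algebraMap A B) q).asIdeal.ResidueField) ⊗ₜ[A] x) := by
  rw [← isRegular_congr (cancelEquiv (A := A) (B := B) (L := L) q.asIdeal.ResidueField), cancelEquiv_tmul,
    one_smul, regular_at, pt_eq_comap (B := B), pt_residueField]

/-- A charting element: `L` becomes free near each prime. -/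
theorem exists_free_chart [Module.Projective A L] (p : PrimeSpectrum A) :
    ∃ s : A, s ∉ p.asIdeal ∧ Module.Free (Localization.Away s) (Localization.Away s ⊗[A] L) := by
  haveI : Module.FinitePresentation A L := Module.finitePresentation_of_projective A L
  have hx : p ∈ Module.freeLocus A L := by rw [Module.freeLocus_eq_univ]; trivial
  haveI : Module.Free (Localization.AtPrime p.asIdeal) (LocalizedModule p.asIdeal.primeCompl L) := hx
  obtain ⟨r, hr, hr', -⟩ := Module.FinitePresentation.exists_free_localizedModule_powers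
    p.asIdeal.primeCompl (LocalizedModule.mkLinearMap p.asIdeal.primeCompl L)
    (Localization.AtPrime p.asIdeal)
  exact ⟨r, hr, Module.Free.of_equiv (LocalizedModule.equivTensorProduct (Submonoid.powers r) L)⟩

/-- The fibre map of a chart. -/
def awayHom {s : A} {p : PrimeSpectrum A} (hs : s ∉ p.asIdeal) :
    Localization.Away s →ₐ[A] p.asIdeal.ResidueField :=
  IsLocalization.liftAlgHom (M := Submonoid.powers s) (f := Algebra.ofId A p.asIdeal.ResidueField)
    (fun y => by
      obtain ⟨_, n, rfl⟩ := y
      show IsUnit (algebraMap A p.asIdeal.ResidueField (s ^ n))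
      rw [map_pow]
      exact (isUnit_iff_ne_zero.2 fun h => hs (Ideal.algebraMap_residueField_eq_zero.1 h)).pow n)

/-- The regular locus of an element is open where the rank is locally constant. -/
theorem isOpen_regular [Module.Projective A L] (hC0 : IsLocallyConstant (rk (A := A) L)) (a : L) :
    IsOpen {p : PrimeSpectrum A |
      LieAlgebra.IsRegular p.asIdeal.ResidueField ((1 : p.asIdeal.ResidueField) ⊗ₜ[A] a)} := by
  refine isOpen_iff_forall_mem_open.2 fun p hp => ?_
  obtain ⟨s, hs, hfree⟩ := exists_free_chart (L := L) p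
  let S := Localization.Away s
  haveI : Module.Free S (S ⊗[A] L) := hfree
  let c := (ad S (S ⊗[A] L) ((1 : S) ⊗ₜ[A] a)).charpoly.coeff (rk L p)
  obtain ⟨⟨u, ⟨_, m, rfl⟩⟩, hu⟩ := IsLocalization.surj (Submonoid.powers s) c
  have key : ∀ q : PrimeSpectrum A, s ∉ q.asIdeal → rk L q = rk L p →
      (LieAlgebra.IsRegular q.asIdeal.ResidueField ((1 : q.asIdeal.ResidueField) ⊗ₜ[A] a) ↔ u ∉ q.asIdeal) := by
    intro q hq hr
    let K := q.asIdeal.ResidueField
    letI : Algebra S K := (awayHom hq).toRingHom.toAlgebra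
    haveI : IsScalarTower A S K := IsScalarTower.of_algebraMap_eq fun r => ((awayHom hq).commutes r).symm
    have h1 : LieAlgebra.rank K (K ⊗[S] (S ⊗[A] L)) = rk L p :=
      (rank_congr (cancelEquiv (A := A) (B := S) (L := L) K)).trans hr
    have h2 : LieAlgebra.IsRegular K ((1 : K) ⊗ₜ[A] a) ↔ algebraMap S K c ≠ 0 := by
      rw [show (1 : K) ⊗ₜ[A] a = cancelEquiv (A := A) (B := S) K ((1 : K) ⊗ₜ[S] ((1 : S) ⊗ₜ[A] a)) by
          rw [cancelEquiv_tmul, one_smul],
        isRegular_congr, LieAlgebra.isRegular_def, h1,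
        show ad K (K ⊗[S] (S ⊗[A] L)) ((1 : K) ⊗ₜ[S] ((1 : S) ⊗ₜ[A] a)) =
          (ad S (S ⊗[A] L) ((1 : S) ⊗ₜ[A] a)).baseChange K from LieModule.toEnd_baseChange S K _ _ _,
        LinearMap.charpoly_baseChange, Polynomial.coeff_map]
    have h3 := congrArg (algebraMap S K) hu
    rw [map_mul, ← IsScalarTower.algebraMap_apply, ← IsScalarTower.algebraMap_apply] at h3
    have h4 : algebraMap A K (s ^ m) ≠ 0 := fun h =>
      hq (q.isPrime.mem_of_pow_mem m (Ideal.algebraMap_residueField_eq_zero.1 h))
    rw [h2, ← not_iff_not, not_not, not_not, ← Ideal.algebraMap_residueField_eq_zero, ← h3, mul_eq_zero]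
    exact ⟨Or.inl, fun h => h.resolve_right h4⟩
  refine ⟨{q | rk L q = rk L p} ∩ ({q | s ∉ q.asIdeal} ∩ {q | u ∉ q.asIdeal}), fun q hq => ?_,
    (hC0.isOpen_fiber _).inter ((PrimeSpectrum.basicOpen s).2.inter (PrimeSpectrum.basicOpen u).2),
    rfl, hs, (key p hs rfl).1 hp⟩
  exact (key q hq.2.1 hq.1).2 hq.2.2

/-- An endomorphism of a finite projective module which is nilpotent on every fibre is nilpotent. -/
theorem isNilpotent_of_fibres {M : Type u} [AddCommGroup M] [Module A M] [Module.Finite A M] [Module.Projective A M]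
    (f : Module.End A M) (h : ∀ p : PrimeSpectrum A, IsNilpotent (f.baseChange p.asIdeal.ResidueField)) :
    IsNilpotent f := by
  classical
  obtain ⟨n, g, hg⟩ := Module.Finite.exists_fin' A M
  obtain ⟨i, hi⟩ := Module.projective_lifting_property g LinearMap.id hg
  let F : Module.End A (Fin n → A) := i ∘ₗ f ∘ₗ g
  have hgi : ∀ x, g (i x) = x := fun x => LinearMap.congr_fun hi x
  have hF : ∀ m : ℕ, F ^ (m + 1) = i ∘ₗ (f ^ (m + 1)) ∘ₗ g := by
    intro m
    induction m with
    | zero => simp [F]
    | succ m ih =>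
      rw [pow_succ' F, ih]
      ext x : 2
      simp [F, hgi, pow_succ' f (m + 1)]
  let χ := F.charpoly
  rcases subsingleton_or_nontrivial A with hA | hA
  · haveI := Module.subsingleton A M
    exact ⟨1, LinearMap.ext fun x => Subsingleton.elim _ _⟩
  have hdeg : χ.natDegree = n := by rw [LinearMap.charpoly_natDegree, Module.finrank_fin_fun]
  have hcoeff : ∀ j, IsNilpotent ((χ - Polynomial.X ^ n).coeff j) := by
    intro j
    rw [← mem_nilradical, nilradical_eq_sInf, Ideal.mem_sInf]
    suffices key : ∀ p : PrimeSpectrum A, (χ - Polynomial.X ^ n).coeff j ∈ p.asIdeal from fun P hP => key ⟨P, hP⟩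
    intro p
    obtain ⟨m, hm⟩ := h p
    have hFn : IsNilpotent (F.baseChange p.asIdeal.ResidueField) :=
      ⟨m + 1, by rw [← LinearMap.baseChange_pow, hF, LinearMap.baseChange_comp, LinearMap.baseChange_comp,
        LinearMap.baseChange_pow, pow_succ, hm, zero_mul, LinearMap.zero_comp, LinearMap.comp_zero]⟩
    have h1 : (F.baseChange p.asIdeal.ResidueField).charpoly = Polynomial.X ^ n := by
      rw [hFn.charpoly_eq_X_pow_finrank, Module.finrank_baseChange, Module.finrank_fin_fun]
    rw [LinearMap.charpoly_baseChange] at h1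
    show (χ - Polynomial.X ^ n).coeff j ∈ p.asIdeal
    rw [← Ideal.algebraMap_residueField_eq_zero, ← Polynomial.coeff_map, Polynomial.map_sub, Polynomial.map_pow,
      Polynomial.map_X, h1, sub_self, Polynomial.coeff_zero]
  have hP : IsNilpotent (χ - Polynomial.X ^ n) := Polynomial.isNilpotent_iff.2 hcoeff
  have h2 := hP.map (Polynomial.aeval F)
  rw [map_sub, LinearMap.aeval_self_charpoly, zero_sub, Polynomial.aeval_X_pow, isNilpotent_neg_iff] at h2
  obtain ⟨m, hm⟩ := h2
  refine ⟨n * m + 1, LinearMap.ext fun x => ?_⟩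
  have h5 := congrArg g (LinearMap.congr_fun (hF (n * m)) (i x))
  rw [pow_succ, pow_mul, hm, zero_mul] at h5
  simpa [hgi] using h5.symm

/-- An endomorphism of a finite module which is surjective on the fibres over `D(f)` is surjective there. -/
theorem exists_pow_smul_mem_range {M : Type u} [AddCommGroup M] [Module A M] [Module.Finite A M]
    (g : Module.End A M) (f : A)
    (h : ∀ q : PrimeSpectrum A, f ∉ q.asIdeal → Function.Surjective (g.baseChange q.asIdeal.ResidueField)) (y : M) :
    ∃ n : ℕ, f ^ n • y ∈ LinearMap.range g := by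
  let C := M ⧸ LinearMap.range g
  have hsupp : Module.support A C ⊆ PrimeSpectrum.zeroLocus {f} := by
    intro q hq
    rw [PrimeSpectrum.mem_zeroLocus, Set.singleton_subset_iff]
    by_contra hf
    have hnt := (Module.mem_support_iff_nontrivial_residueField_tensorProduct q).1 hq
    refine (not_subsingleton_iff_nontrivial.2 hnt) ⟨fun a b => ?_⟩
    suffices hz : ∀ z : q.asIdeal.ResidueField ⊗[A] C, z = 0 by rw [hz a, hz b]
    intro z
    obtain ⟨w, rfl⟩ := LinearMap.lTensor_surjective q.asIdeal.ResidueField (Submodule.mkQ_surjective _) z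
    obtain ⟨v, rfl⟩ := h q hf w
    rw [LinearMap.baseChange_eq_ltensor, ← LinearMap.lTensor_comp_apply,
      show (LinearMap.range g).mkQ ∘ₗ g = 0 from LinearMap.ext fun x =>
        (Submodule.Quotient.mk_eq_zero _).2 (LinearMap.mem_range_self g x),
      LinearMap.lTensor_zero, LinearMap.zero_apply]
  rw [Module.support_eq_zeroLocus] at hsupp
  rw [PrimeSpectrum.subset_zeroLocus_iff_subset_vanishingIdeal, PrimeSpectrum.vanishingIdeal_zeroLocus_eq_radical,
    Set.singleton_subset_iff] at hsupp
  obtain ⟨n, hn⟩ := hsupp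
  refine ⟨n, (Submodule.Quotient.mk_eq_zero _).1 ?_⟩
  rw [Submodule.Quotient.mk_smul]
  exact Module.mem_annihilator.1 hn _

/-- A fibrewise bijective endomorphism: injectivity up to powers of `f`. -/
theorem exists_pow_smul_eq_zero {M : Type u} [AddCommGroup M] [Module A M] [Module.Finite A M]
    (g : Module.End A M) (f : A)
    (h : ∀ q : PrimeSpectrum A, f ∉ q.asIdeal → Function.Surjective (g.baseChange q.asIdeal.ResidueField))
    {y : M} {k : ℕ} (hy : (g ^ k) y = 0) : ∃ n : ℕ, f ^ n • y = 0 := by
  let S := Localization.Away f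
  have hsurj : Function.Surjective (g.baseChange S) := by
    intro z
    induction z using TensorProduct.induction_on with
    | zero => exact ⟨0, map_zero _⟩
    | add p q hp hq =>
      obtain ⟨a, rfl⟩ := hp
      obtain ⟨b, rfl⟩ := hq
      exact ⟨a + b, map_add _ _ _⟩
    | tmul r x =>
      obtain ⟨n, v, hv⟩ := exists_pow_smul_mem_range g f h x
      have hu : IsUnit (algebraMap A S (f ^ n)) :=
        IsLocalization.map_units (M := Submonoid.powers f) S ⟨f ^ n, n, rfl⟩
      refine ⟨(r * ↑hu.unit⁻¹) ⊗ₜ[A] v, ?_⟩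
      rw [LinearMap.baseChange_tmul, hv, TensorProduct.tmul_smul, TensorProduct.smul_tmul', Algebra.smul_def,
        mul_left_comm, IsUnit.mul_val_inv, mul_one]
  have hinj : Function.Injective ((g.baseChange S) ^ k) :=
    OrzechProperty.injective_of_surjective_endomorphism _ (by
      rw [Module.End.coe_pow]
      exact hsurj.iterate k)
  have h1 : (1 : S) ⊗ₜ[A] y = 0 := hinj (by
    rw [map_zero, ← LinearMap.baseChange_pow, LinearMap.baseChange_tmul, hy, TensorProduct.tmul_zero])
  obtain ⟨⟨_, n, rfl⟩, hn⟩ :=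
    (IsLocalizedModule.eq_zero_iff (Submonoid.powers f) (TensorProduct.mk A S M 1)).1 h1
  exact ⟨n, hn⟩

end

end Groth.Agent.H66.Cartan
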