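import Mathlib

/-! Regular elements, rank and Engel subalgebras of Lie algebras over fields; extension of scalars. -/

set_option autoImplicit false
set_option linter.unusedSectionVars false

universe u v w

open TensorProduct Module LieAlgebra LieSubalgebra

namespace Groth.Agent.H66.Cartan

noncomputable section

attribute [local instance 100] LieRing.ofAssociativeRing

section BaseChangeHom

variable {A : Type u} [CommRing A] (B : Type v) [CommRing B] [Algebra A B]
variable {L L' : Type w} [LieRing L] [LieAlgebra A L] [LieRing L'] [LieAlgebra A L']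

/-- Extension of scalars of a morphism of Lie algebras. -/
def bcHom (g : L →ₗ⁅A⁆ L') : B ⊗[A] L →ₗ⁅B⁆ B ⊗[A] L' :=
  { (g : L →ₗ[A] L').baseChange B with
    map_lie' := fun {x y} => by
      simp only [AddHom.toFun_eq_coe, LinearMap.coe_toAddHom]
      induction x using TensorProduct.induction_on with
      | zero => simp
      | add p q hp hq => simp only [add_lie, map_add, hp, hq]
      | tmul s l =>
        induction y using TensorProduct.induction_on with
        | zero => simp
        | add p q hp hq => simp only [lie_add, map_add, hp, hq]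
        | tmul t m => simp [LieAlgebra.ExtendScalars.bracket_tmul] }

@[simp] theorem bcHom_tmul (g : L →ₗ⁅A⁆ L') (b : B) (x : L) : bcHom B g (b ⊗ₜ[A] x) = b ⊗ₜ[A] g x := rfl

theorem bcHom_apply (g : L →ₗ⁅A⁆ L') (x : B ⊗[A] L) : bcHom B g x = (g : L →ₗ[A] L').baseChange B x := rfl

/-- Extension of scalars of an isomorphism of Lie algebras. -/
def bcEquiv (e : L ≃ₗ⁅A⁆ L') : B ⊗[A] L ≃ₗ⁅B⁆ B ⊗[A] L' :=
  { bcHom B e.toLieHom with
    invFun := bcHom B e.symm.toLieHom
    left_inv := fun x => by
      show bcHom B e.symm.toLieHom (bcHom B e.toLieHom x) = x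
      induction x using TensorProduct.induction_on with
      | zero => simp
      | add p q hp hq => simp only [map_add, hp, hq]
      | tmul s l => simp
    right_inv := fun x => by
      show bcHom B e.toLieHom (bcHom B e.symm.toLieHom x) = x
      induction x using TensorProduct.induction_on with
      | zero => simp
      | add p q hp hq => simp only [map_add, hp, hq]
      | tmul s l => simp }

@[simp] theorem bcEquiv_tmul (e : L ≃ₗ⁅A⁆ L') (b : B) (x : L) : bcEquiv B e (b ⊗ₜ[A] x) = b ⊗ₜ[A] e x := rfl

variable {B}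
variable (C : Type v) [CommRing C] [Algebra A C] [Algebra B C] [IsScalarTower A B C]

/-- Transitivity of extension of scalars for Lie algebras. -/
def cancelEquiv : C ⊗[B] (B ⊗[A] L) ≃ₗ⁅C⁆ C ⊗[A] L :=
  { AlgebraTensorModule.cancelBaseChange A B C C L with
    map_lie' := fun {x y} => by
      simp only [AddHom.toFun_eq_coe, LinearMap.coe_toAddHom, LinearEquiv.coe_coe]
      induction x using TensorProduct.induction_on with
      | zero => simp
      | add p q hp hq => simp only [add_lie, map_add, hp, hq]
      | tmul s l =>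
        induction y using TensorProduct.induction_on with
        | zero => simp
        | add p q hp hq => simp only [lie_add, map_add, hp, hq]
        | tmul t m =>
          induction l using TensorProduct.induction_on with
          | zero => simp
          | add p q hp hq => simp only [tmul_add, add_lie, map_add, hp, hq]
          | tmul b l =>
            induction m using TensorProduct.induction_on with
            | zero => simp
            | add p q hp hq => simp only [tmul_add, lie_add, map_add, hp, hq]
            | tmul b' m =>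
              simp only [LieAlgebra.ExtendScalars.bracket_tmul, AlgebraTensorModule.cancelBaseChange_tmul]
              rw [smul_mul_smul_comm] }

@[simp] theorem cancelEquiv_tmul (c : C) (b : B) (x : L) :
    cancelEquiv (A := A) C (c ⊗ₜ[B] (b ⊗ₜ[A] x)) = (b • c) ⊗ₜ[A] x :=
  AlgebraTensorModule.cancelBaseChange_tmul A B C c x b

end BaseChangeHom

section Field

variable {K : Type u} [Field K] {M : Type v} [LieRing M] [LieAlgebra K M] [Module.Finite K M]

theorem engel_map {R : Type u} [CommRing R] {N N' : Type v} [LieRing N] [LieAlgebra R N] [LieRing N']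
    [LieAlgebra R N'] (e : N ≃ₗ⁅R⁆ N') (x y : N) : e y ∈ engel R (e x) ↔ y ∈ engel R x := by
  have h : ∀ n : ℕ, ((ad R N' (e x)) ^ n) (e y) = e (((ad R N x) ^ n) y) := by
    intro n
    induction n with
    | zero => rfl
    | succ n ih => rw [pow_succ', pow_succ', Module.End.mul_apply, Module.End.mul_apply, ih, ad_apply, ad_apply,
        LieEquiv.map_lie]
  simp only [mem_engel_iff, h]
  exact exists_congr fun n => map_eq_zero_iff e e.injective

theorem finrank_engel_map {N' : Type v} [LieRing N'] [LieAlgebra K N'] [Module.Finite K N'] (e : M ≃ₗ⁅K⁆ N') (x : M) :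
    finrank K (engel K (e x)) = finrank K (engel K x) := by
  have h : (engel K x).toSubmodule.map (e.toLinearEquiv : M →ₗ[K] N') = (engel K (e x)).toSubmodule := by
    ext y
    rw [Submodule.mem_map]
    constructor
    · rintro ⟨z, hz, rfl⟩
      exact (engel_map e x z).2 hz
    · intro hy
      exact ⟨e.symm y, (engel_map e x _).1 (by rwa [e.apply_symm_apply]), e.apply_symm_apply y⟩
  exact (LinearEquiv.finrank_eq ((e.toLinearEquiv.submoduleMap _).trans (LinearEquiv.ofEq _ _ h))).symm

theorem rank_baseChange (K' : Type u) [Field K'] [Algebra K K'] :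
    rank K' (K' ⊗[K] M) = rank K M := by
  classical
  let b := Module.Free.chooseBasis K M
  have hφ : (ad K' (K' ⊗[K] M)).toLinearMap =
      LinearMap.tensorProduct K K' M M ∘ₗ ((ad K M).toLinearMap.baseChange K') := by
    refine TensorProduct.AlgebraTensorModule.ext fun a x => LinearMap.ext fun z => ?_
    induction z using TensorProduct.induction_on with
    | zero => simp
    | add p q hp hq => simp only [map_add, hp, hq]
    | tmul c y =>
      simp [LinearMap.tensorProduct, TensorProduct.smul_tmul', LieAlgebra.ExtendScalars.bracket_tmul]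
  rw [rank_eq_natTrailingDegree K' (K' ⊗[K] M) (Algebra.TensorProduct.basis K' b),
    rank_eq_natTrailingDegree K M b, hφ, LinearMap.polyCharpoly_baseChange]
  set P := LinearMap.polyCharpoly (ad K M).toLinearMap b
  have hinj : Function.Injective (MvPolynomial.map (σ := Module.Free.ChooseBasisIndex K M) (algebraMap K K')) :=
    MvPolynomial.map_injective _ (algebraMap K K').injective
  have hP : P ≠ 0 := LinearMap.polyCharpoly_ne_zero _ _
  refine le_antisymm (Polynomial.natTrailingDegree_le_of_ne_zero ?_) (Polynomial.natTrailingDegree_le_of_ne_zero ?_)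
  · rw [Polynomial.coeff_map]
    exact (map_ne_zero_iff _ hinj).2 (Polynomial.trailingCoeff_nonzero_iff_nonzero.2 hP)
  · intro h
    have h2 := Polynomial.trailingCoeff_nonzero_iff_nonzero.2
      ((Polynomial.map_ne_zero_iff hinj).2 hP : P.map (MvPolynomial.map (algebraMap K K')) ≠ 0)
    rw [Polynomial.trailingCoeff, Polynomial.coeff_map, h, map_zero] at h2
    exact h2 rfl

theorem isRegular_baseChange (K' : Type u) [Field K'] [Algebra K K'] (x : M) :
    LieAlgebra.IsRegular K' ((1 : K') ⊗ₜ[K] x) ↔ LieAlgebra.IsRegular K x := by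
  rw [LieAlgebra.isRegular_def, LieAlgebra.isRegular_def, rank_baseChange,
    show ad K' (K' ⊗[K] M) ((1 : K') ⊗ₜ[K] x) = (ad K M x).baseChange K' from LieModule.toEnd_baseChange K K' M M x,
    LinearMap.charpoly_baseChange, Polynomial.coeff_map, map_ne_zero_iff _ (algebraMap K K').injective]

theorem rank_le_of_equiv [Infinite K] {N' : Type v} [LieRing N'] [LieAlgebra K N'] [Module.Finite K N']
    (e : M ≃ₗ⁅K⁆ N') : rank K N' ≤ rank K M := by
  obtain ⟨x, hx⟩ := LieAlgebra.exists_isRegular K M
  rw [isRegular_iff_finrank_engel_eq_rank] at hx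
  rw [← hx, ← finrank_engel_map e x]
  exact rank_le_finrank_engel _ _

theorem rank_congr {K : Type u} [Field K] {N N' : Type u} [LieRing N] [LieAlgebra K N] [Module.Finite K N]
    [LieRing N'] [LieAlgebra K N'] [Module.Finite K N'] (e : N ≃ₗ⁅K⁆ N') : rank K N = rank K N' := by
  rw [← rank_baseChange (M := N) (AlgebraicClosure K), ← rank_baseChange (M := N') (AlgebraicClosure K)]
  exact le_antisymm (rank_le_of_equiv (bcEquiv _ e.symm)) (rank_le_of_equiv (bcEquiv _ e))

theorem isRegular_congr {K : Type u} [Field K] {N N' : Type u} [LieRing N] [LieAlgebra K N] [Module.Finite K N]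
    [LieRing N'] [LieAlgebra K N'] [Module.Finite K N'] (e : N ≃ₗ⁅K⁆ N') (x : N) :
    LieAlgebra.IsRegular K (e x) ↔ LieAlgebra.IsRegular K x := by
  rw [isRegular_iff_finrank_engel_eq_rank, isRegular_iff_finrank_engel_eq_rank, finrank_engel_map, rank_congr e]

theorem isRegular_smul {c : K} (hc : c ≠ 0) (x : M) :
    LieAlgebra.IsRegular K (c • x) ↔ LieAlgebra.IsRegular K x := by
  have h : engel K (c • x) = engel K x := by
    ext y
    simp only [mem_engel_iff, map_smul, smul_pow, LinearMap.smul_apply]
    exact exists_congr fun n => smul_eq_zero_iff_right (pow_ne_zero n hc)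
  rw [isRegular_iff_finrank_engel_eq_rank, isRegular_iff_finrank_engel_eq_rank, h]

/-- The Engel subalgebra of a regular element is nilpotent. -/
theorem isNilpotent_engel_of_isRegular {K : Type u} [Field K] {M : Type u} [LieRing M] [LieAlgebra K M]
    [Module.Finite K M] {x : M} (hx : LieAlgebra.IsRegular K x) : LieRing.IsNilpotent (engel K x) := by
  apply isNilpotent_of_forall_le_engel
  intro y hy z hz
  let K' := AlgebraicClosure K
  let j : M → K' ⊗[K] M := fun m => (1 : K') ⊗ₜ[K] m
  have hj : ∀ m w : M, j w ∈ engel K' (j m) ↔ w ∈ engel K m := by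
    intro m w
    simp only [mem_engel_iff, j]
    refine exists_congr fun n => ?_
    rw [show ad K' (K' ⊗[K] M) ((1 : K') ⊗ₜ[K] m) = (ad K M m).baseChange K' from LieModule.toEnd_baseChange K K' M M m,
      ← LinearMap.baseChange_pow, LinearMap.baseChange_tmul]
    exact map_eq_zero_iff (TensorProduct.mk K K' M 1) (Module.FaithfullyFlat.tensorProduct_mk_injective (A := K) M)
  rw [← hj]
  have hreg : LieAlgebra.IsRegular K' (j x) := (isRegular_baseChange K' x).2 hx
  set Ex : {engel K' z | z ∈ engel K' (j x)} := ⟨engel K' (j x), j x, self_mem_engel _ _, rfl⟩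
  suffices IsBot Ex from (this ⟨engel K' (j y), j y, (hj x y).2 hy, rfl⟩) ((hj x z).2 hz)
  refine LieAlgebra.engel_isBot_of_isMin (Cardinal.natCast_le_aleph0.trans <| Cardinal.infinite_iff.mp inferInstance)
    (engel K' (j x)) Ex le_rfl ?_
  rintro ⟨_, w, hw, rfl⟩ hwx
  suffices h : finrank K' (engel K' (j x)) ≤ finrank K' (engel K' w) from
    (LieSubalgebra.toSubmodule_injective (Submodule.eq_of_le_of_finrank_le hwx h)).ge
  rw [(isRegular_iff_finrank_engel_eq_rank K' (j x)).mp hreg]
  exact rank_le_finrank_engel _ _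

/-- A nilpotent subalgebra is contained in the Engel subalgebra of each of its elements. -/
theorem le_engel_of_isNilpotent {R : Type u} [CommRing R] {N : Type v} [LieRing N] [LieAlgebra R N]
    (H : LieSubalgebra R N) [LieRing.IsNilpotent H] {x : N} (hx : x ∈ H) : H ≤ engel R x := by
  intro y hy
  obtain ⟨n, hn⟩ := LieModule.exists_forall_pow_toEnd_eq_zero R H H
  refine (mem_engel_iff R x y).2 ⟨n, ?_⟩
  have h := LinearMap.congr_fun (hn ⟨x, hx⟩) ⟨y, hy⟩
  have h2 : ∀ m : ℕ, ((((ad R H ⟨x, hx⟩) ^ m) ⟨y, hy⟩ : H) : N) = ((ad R N x) ^ m) y := by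
    intro m
    induction m with
    | zero => rfl
    | succ m ih => rw [pow_succ', pow_succ', Module.End.mul_apply, Module.End.mul_apply, ← ih]; rfl
  rw [← h2]
  exact congrArg Subtype.val h

/-- A nilpotent subalgebra of rank dimension containing a regular element is its Engel subalgebra. -/
theorem eq_engel_of_regular (H : LieSubalgebra K M) [LieRing.IsNilpotent H]
    (hdim : finrank K H = rank K M) {x : M} (hxH : x ∈ H) (hx : LieAlgebra.IsRegular K x) : H = engel K x :=
  LieSubalgebra.toSubmodule_injective (Submodule.eq_of_le_of_finrank_le (le_engel_of_isNilpotent H hxH)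
    (((isRegular_iff_finrank_engel_eq_rank K x).1 hx).trans hdim.symm).le)

/-- Over an infinite field, a nilpotent self-normalizing subalgebra is an Engel subalgebra. -/
theorem exists_eq_engel [Infinite K] (H : LieSubalgebra K M) [LieRing.IsNilpotent H]
    (hnorm : ∀ x : M, (∀ y ∈ H, ⁅x, y⁆ ∈ H) → x ∈ H) : ∃ x ∈ H, H = engel K x := by
  classical
  obtain ⟨⟨x, hxH⟩, -, hmin⟩ := exists_minimalFor_of_wellFoundedLT (fun _ : H => True)
    (fun z : H => finrank K (engel K (z : M))) ⟨0, trivial⟩
  refine ⟨x, hxH, ?_⟩
  have hle : H ≤ engel K x := le_engel_of_isNilpotent H hxH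
  set Ex : {engel K z | z ∈ H} := ⟨engel K x, x, hxH, rfl⟩
  have hbot : IsBot Ex := by
    refine LieAlgebra.engel_isBot_of_isMin (Cardinal.natCast_le_aleph0.trans <| Cardinal.infinite_iff.mp inferInstance)
      H Ex hle ?_
    rintro ⟨_, w, hw, rfl⟩ hwx
    have h1 : finrank K (engel K x) ≤ finrank K (engel K w) :=
      hmin (j := ⟨w, hw⟩) trivial (Submodule.finrank_mono hwx)
    exact (LieSubalgebra.toSubmodule_injective (Submodule.eq_of_le_of_finrank_le hwx h1)).ge
  -- `engel K x / H` is a nilpotent `H`-module without invariants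
  let V : LieSubmodule K H M :=
    { (engel K x).toSubmodule with
      lie_mem := fun {h m} hm => (engel K x).lie_mem (hle h.2) hm }
  let W : LieSubmodule K H V := H.toLieSubmodule.comap V.incl
  by_contra hne
  obtain ⟨v, hvE, hvH⟩ := SetLike.exists_of_lt (lt_of_le_of_ne hle hne)
  haveI : Nontrivial (V ⧸ W) := by
    refine ⟨⟨LieSubmodule.Quotient.mk' W ⟨v, hvE⟩, 0, fun h => hvH ?_⟩⟩
    rw [LieSubmodule.Quotient.mk_eq_zero] at h
    exact h
  haveI : LieModule.IsNilpotent H (V ⧸ W) := by
    rw [LieModule.isNilpotent_iff_forall (R := K)]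
    intro h
    obtain ⟨n, hn⟩ : IsNilpotent (LieModule.toEnd K H V h) := by
      rw [Module.End.isNilpotent_iff_of_finite]
      intro w
      obtain ⟨n, hn⟩ := (mem_engel_iff K (h : M) (w : M)).1 (hbot ⟨engel K (h : M), h, h.2, rfl⟩ w.2)
      refine ⟨n, Subtype.ext ?_⟩
      have h2 : ∀ m : ℕ, (((LieModule.toEnd K H V h ^ m) w : V) : M) = ((ad K M (h : M)) ^ m) (w : M) := by
        intro m
        induction m with
        | zero => rfl
        | succ m ih => rw [pow_succ', pow_succ', Module.End.mul_apply, Module.End.mul_apply, ← ih]; rfl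
      rw [h2]
      exact hn
    refine ⟨n, LinearMap.ext fun q => ?_⟩
    obtain ⟨w, rfl⟩ := LieSubmodule.Quotient.surjective_mk' W q
    have h2 : ∀ m : ℕ, (LieModule.toEnd K H (V ⧸ W) h ^ m) (LieSubmodule.Quotient.mk' W w) =
        LieSubmodule.Quotient.mk' W ((LieModule.toEnd K H V h ^ m) w) := by
      intro m
      induction m with
      | zero => rfl
      | succ m ih => rw [pow_succ', pow_succ', Module.End.mul_apply, Module.End.mul_apply, ih]; rfl
    rw [h2, hn]
    simp
  haveI := LieModule.nontrivial_max_triv_of_isNilpotent K H (V ⧸ W)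
  obtain ⟨⟨q, hq⟩, hq0⟩ := exists_ne (0 : LieModule.maxTrivSubmodule K H (V ⧸ W))
  obtain ⟨w, rfl⟩ := LieSubmodule.Quotient.surjective_mk' W q
  refine hq0 (Subtype.ext ?_)
  show LieSubmodule.Quotient.mk' W w = 0
  rw [LieSubmodule.Quotient.mk_eq_zero]
  show (w : M) ∈ H
  refine hnorm _ fun y hy => ?_
  have h3 := hq ⟨y, hy⟩
  rw [← LieModuleHom.map_lie, LieSubmodule.Quotient.mk_eq_zero] at h3
  rw [← lie_skew, neg_mem_iff]
  exact h3

end Field

end

end Groth.Agent.H66.Cartan
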