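import Groth.Agent.H66.Cartan.Base
import Mathlib

/-! Relative Cartan subalgebras and quasi-regular elements. -/

set_option autoImplicit false
set_option linter.unusedSectionVars false

universe u

open TensorProduct Module LieAlgebra LieSubalgebra SGA3t2b

namespace Groth.Agent.H66.Cartan

noncomputable section

attribute [local instance 100] LieRing.ofAssociativeRing

variable {A : Type u} [CommRing A] {L : Type u} [LieRing L] [LieAlgebra A L]

/-- The image of `K ⊗ H` in `K ⊗ L`. -/
def fib (K : Type u) [CommRing K] [Algebra A K] (H : LieSubalgebra A L) : LieSubalgebra K (K ⊗[A] L) :=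
  (bcHom K H.incl).range

theorem mem_fib {K : Type u} [CommRing K] [Algebra A K] {H : LieSubalgebra A L} {x : K ⊗[A] L} :
    x ∈ fib K H ↔ ∃ z : K ⊗[A] H, bcHom K H.incl z = x := LieHom.mem_range _ _

theorem fibreSubmodule_eq (p : PrimeSpectrum A) (H : LieSubalgebra A L) :
    fibreSubmodule p H = (fib p.asIdeal.ResidueField H).toSubmodule := by
  ext x
  rw [LieSubalgebra.mem_toSubmodule, mem_fib]
  rfl

theorem mem_fib_iff_mkQ {K : Type u} [CommRing K] [Algebra A K] {H : LieSubalgebra A L} {x : K ⊗[A] L} :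
    x ∈ fib K H ↔ H.toSubmodule.mkQ.baseChange K x = 0 := by
  have hex := lTensor_exact K (LinearMap.exact_subtype_mkQ H.toSubmodule) (Submodule.mkQ_surjective _)
  rw [mem_fib]
  exact (hex x).symm

/-- A complemented subalgebra has a retraction. -/
theorem exists_retraction (H : LieSubalgebra A L) [Module.Projective A (L ⧸ H.toSubmodule)] :
    ∃ ρ : L →ₗ[A] H, ∀ h : H, ρ (h : L) = h := by
  obtain ⟨t, ht⟩ := Module.projective_lifting_property H.toSubmodule.mkQ LinearMap.id (Submodule.mkQ_surjective _)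
  have h1 : ∀ x : L, x - t (H.toSubmodule.mkQ x) ∈ H.toSubmodule := fun x => by
    rw [← Submodule.Quotient.mk_eq_zero, Submodule.Quotient.mk_sub]
    exact sub_eq_zero.2 (LinearMap.congr_fun ht _).symm
  refine ⟨(LinearMap.id - t ∘ₗ H.toSubmodule.mkQ).codRestrict H.toSubmodule h1, fun h => Subtype.ext ?_⟩
  show (h : L) - t (H.toSubmodule.mkQ h) = h
  rw [show H.toSubmodule.mkQ (h : L) = 0 from (Submodule.Quotient.mk_eq_zero _).2 h.2, map_zero, sub_zero]

theorem finite_of_projective_quotient [Module.Finite A L] (H : LieSubalgebra A L)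
    [Module.Projective A (L ⧸ H.toSubmodule)] : Module.Finite A H := by
  obtain ⟨ρ, hρ⟩ := exists_retraction H
  exact Module.Finite.of_surjective ρ fun h => ⟨h, hρ h⟩

theorem projective_of_projective_quotient [Module.Projective A L] (H : LieSubalgebra A L)
    [Module.Projective A (L ⧸ H.toSubmodule)] : Module.Projective A H := by
  obtain ⟨ρ, hρ⟩ := exists_retraction H
  exact Module.Projective.of_split (H.incl : H →ₗ[A] L) ρ (LinearMap.ext hρ)

theorem bcHom_incl_injective (K : Type u) [CommRing K] [Algebra A K] (H : LieSubalgebra A L)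
    [Module.Projective A (L ⧸ H.toSubmodule)] : Function.Injective (bcHom K H.incl) := by
  obtain ⟨ρ, hρ⟩ := exists_retraction H
  refine Function.LeftInverse.injective (g := ρ.baseChange K) fun z => ?_
  rw [bcHom_apply]
  induction z using TensorProduct.induction_on with
  | zero => simp
  | add p q hp hq => rw [map_add, map_add, hp, hq]
  | tmul c h => simp [hρ]

variable [Module.Finite A L]

theorem fib_isNilpotent {H : LieSubalgebra A L} (hH : IsCartanRel H) (p : PrimeSpectrum A) :
    LieRing.IsNilpotent (fib p.asIdeal.ResidueField H) := by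
  haveI := (hH.2 p).1
  exact Function.Surjective.lieAlgebra_isNilpotent
    (f := (bcHom p.asIdeal.ResidueField H.incl).rangeRestrict) (LieHom.surjective_rangeRestrict _)

theorem finrank_fib {H : LieSubalgebra A L} (hH : IsCartanRel H) (p : PrimeSpectrum A) :
    finrank p.asIdeal.ResidueField (fib p.asIdeal.ResidueField H) = rk L p :=
  ((LinearEquiv.ofEq _ _ (fibreSubmodule_eq p H)).finrank_eq).symm.trans (hH.2 p).2.2

theorem fib_eq_engel {H : LieSubalgebra A L} (hH : IsCartanRel H) (p : PrimeSpectrum A) {a : L} (ha : a ∈ H)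
    (hreg : LieAlgebra.IsRegular p.asIdeal.ResidueField ((1 : p.asIdeal.ResidueField) ⊗ₜ[A] a)) :
    fib p.asIdeal.ResidueField H = engel p.asIdeal.ResidueField ((1 : p.asIdeal.ResidueField) ⊗ₜ[A] a) := by
  haveI := fib_isNilpotent hH p
  exact eq_engel_of_regular _ (finrank_fib hH p) (mem_fib.2 ⟨1 ⊗ₜ[A] ⟨a, ha⟩, rfl⟩) hreg

omit [Module.Finite A L] in
theorem coe_ad_pow_sub (H : LieSubalgebra A L) (a : H) (y : H) (m : ℕ) :
    ((((ad A H a) ^ m) y : H) : L) = ((ad A L (a : L)) ^ m) (y : L) := by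
  induction m with
  | zero => rfl
  | succ m ih => rw [pow_succ', pow_succ', Module.End.mul_apply, Module.End.mul_apply, ← ih]; rfl

theorem le_engel [Module.Projective A L] {H : LieSubalgebra A L} (hH : IsCartanRel H) {a : L} (ha : a ∈ H) :
    H ≤ engel A a := by
  haveI := hH.1
  haveI := finite_of_projective_quotient H
  haveI := projective_of_projective_quotient H
  obtain ⟨n, hn⟩ : IsNilpotent (ad A H ⟨a, ha⟩) := by
    refine isNilpotent_of_fibres (M := H) _ fun p => ?_
    haveI := (hH.2 p).1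
    obtain ⟨n, hn⟩ := LieModule.exists_forall_pow_toEnd_eq_zero p.asIdeal.ResidueField
      (p.asIdeal.ResidueField ⊗[A] H) (p.asIdeal.ResidueField ⊗[A] H)
    refine ⟨n, ?_⟩
    rw [show (ad A H ⟨a, ha⟩).baseChange p.asIdeal.ResidueField =
      LieModule.toEnd p.asIdeal.ResidueField (p.asIdeal.ResidueField ⊗[A] H) (p.asIdeal.ResidueField ⊗[A] H)
        ((1 : p.asIdeal.ResidueField) ⊗ₜ[A] ⟨a, ha⟩) from (LieModule.toEnd_baseChange A _ H H _).symm]
    exact hn _
  intro y hy
  refine (mem_engel_iff A a y).2 ⟨n, ?_⟩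
  have h := congrArg Subtype.val (LinearMap.congr_fun hn ⟨y, hy⟩)
  rw [coe_ad_pow_sub] at h
  exact h

/-- The endomorphism induced by `ad a` on `L / H`. -/
def adQ (H : LieSubalgebra A L) (a : L) (ha : a ∈ H) : Module.End A (L ⧸ H.toSubmodule) :=
  H.toSubmodule.mapQ H.toSubmodule (ad A L a) fun _ hx => H.lie_mem ha hx

omit [Module.Finite A L] in
theorem adQ_pow_mk (H : LieSubalgebra A L) (a : L) (ha : a ∈ H) (n : ℕ) (y : L) :
    (adQ H a ha ^ n) (Submodule.Quotient.mk y) = Submodule.Quotient.mk (((ad A L a) ^ n) y) := by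
  induction n with
  | zero => rfl
  | succ n ih => rw [pow_succ', pow_succ', Module.End.mul_apply, Module.End.mul_apply, ih]; rfl

theorem adQ_fibre_surjective {H : LieSubalgebra A L} {a : L} (ha : a ∈ H) (p : PrimeSpectrum A)
    (hle : engel p.asIdeal.ResidueField ((1 : p.asIdeal.ResidueField) ⊗ₜ[A] a) ≤ fib p.asIdeal.ResidueField H) :
    Function.Surjective ((adQ H a ha).baseChange p.asIdeal.ResidueField) := by
  set K := p.asIdeal.ResidueField
  intro w
  obtain ⟨z, rfl⟩ := LinearMap.lTensor_surjective K (Submodule.mkQ_surjective H.toSubmodule) w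
  set F := ad K (K ⊗[A] L) ((1 : K) ⊗ₜ[A] a) with hF
  obtain ⟨N, hN⟩ := Filter.eventually_atTop.1 F.eventually_codisjoint_ker_pow_range_pow
  have hcod := hN (N + 1) (Nat.le_succ N)
  obtain ⟨e, he, _, ⟨y, rfl⟩, hey⟩ := Submodule.mem_sup.1 (hcod.eq_top ▸ Submodule.mem_top (x := z) :
    z ∈ LinearMap.ker (F ^ (N + 1)) ⊔ LinearMap.range (F ^ (N + 1)))
  refine ⟨H.toSubmodule.mkQ.baseChange K ((F ^ N) y), ?_⟩
  have he0 : H.toSubmodule.mkQ.baseChange K e = 0 :=
    mem_fib_iff_mkQ.1 (hle ((mem_engel_iff K _ e).2 ⟨N + 1, he⟩))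
  show _ = H.toSubmodule.mkQ.baseChange K z
  rw [← hey, map_add, he0, zero_add, pow_succ' F N, Module.End.mul_apply]
  have hc : H.toSubmodule.mkQ.baseChange K ∘ₗ F = (adQ H a ha).baseChange K ∘ₗ H.toSubmodule.mkQ.baseChange K := by
    rw [hF, show ad K (K ⊗[A] L) ((1 : K) ⊗ₜ[A] a) = (ad A L a).baseChange K from LieModule.toEnd_baseChange A K L L a,
      ← LinearMap.baseChange_comp, ← LinearMap.baseChange_comp]
    rfl
  exact (LinearMap.congr_fun hc ((F ^ N) y)).symm

theorem adQ_surj_of_regular {H : LieSubalgebra A L} (hH : IsCartanRel H) {a : L} (ha : a ∈ H)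
    (f : A) (hreg : ∀ q : PrimeSpectrum A, f ∉ q.asIdeal →
      LieAlgebra.IsRegular q.asIdeal.ResidueField ((1 : q.asIdeal.ResidueField) ⊗ₜ[A] a)) :
    ∀ q : PrimeSpectrum A, f ∉ q.asIdeal →
      Function.Surjective ((adQ H a ha).baseChange q.asIdeal.ResidueField) :=
  fun q hq => adQ_fibre_surjective ha q (fib_eq_engel hH q ha (hreg q hq)).ge

theorem exists_pow_smul_mem_of_mem_engel {H : LieSubalgebra A L} (hH : IsCartanRel H) {a : L} (ha : a ∈ H)
    (f : A) (hreg : ∀ q : PrimeSpectrum A, f ∉ q.asIdeal →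
      LieAlgebra.IsRegular q.asIdeal.ResidueField ((1 : q.asIdeal.ResidueField) ⊗ₜ[A] a))
    {y : L} (hy : y ∈ engel A a) : ∃ n : ℕ, f ^ n • y ∈ H := by
  obtain ⟨k, hk⟩ := (mem_engel_iff A a y).1 hy
  obtain ⟨n, hn⟩ := exists_pow_smul_eq_zero (adQ H a ha) f (adQ_surj_of_regular hH ha f hreg)
    (y := Submodule.Quotient.mk y) (k := k) (by rw [adQ_pow_mk, hk, Submodule.Quotient.mk_zero])
  refine ⟨n, (Submodule.Quotient.mk_eq_zero H.toSubmodule).1 ?_⟩
  rw [Submodule.Quotient.mk_smul, hn]

/-- A relative Cartan subalgebra containing a quasi-regular element is its Engel subalgebra. -/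
theorem eq_engel [Module.Projective A L] {H : LieSubalgebra A L} (hH : IsCartanRel H) {a : L} (ha : a ∈ H)
    (hq : IsQuasiRegular A L a) : H = engel A a := by
  refine le_antisymm (le_engel hH ha) fun y hy => ?_
  obtain ⟨n, hn⟩ := exists_pow_smul_mem_of_mem_engel hH ha 1 (fun q _ => hq q) hy
  rwa [one_pow, one_smul] at hn

theorem exists_cartanRel_iff [Module.Projective A L] {a : L} (hq : IsQuasiRegular A L a) :
    (∃ H : LieSubalgebra A L, IsCartanRel H ∧ a ∈ H) ↔
      (Module.Projective A (L ⧸ (engel A a).toSubmodule) ∧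
        (∀ z : L, ⁅a, z⁆ ∈ engel A a → z ∈ engel A a) ∧
        (∀ y : L, ∃ z : L, ⁅a, z⁆ - y ∈ engel A a)) := by
  constructor
  · rintro ⟨H, hH, ha⟩
    have heq := eq_engel hH ha hq
    rw [← heq]
    refine ⟨hH.1, fun z hz => ?_, fun y => ?_⟩
    · rw [heq, mem_engel_iff] at hz ⊢
      obtain ⟨n, hn⟩ := hz
      exact ⟨n + 1, by rw [pow_succ, Module.End.mul_apply]; exact hn⟩
    · obtain ⟨n, w, hw⟩ := exists_pow_smul_mem_range (adQ H a ha) 1
        (adQ_surj_of_regular hH ha 1 fun q _ => hq q) (Submodule.Quotient.mk y)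
      obtain ⟨z, rfl⟩ := Submodule.Quotient.mk_surjective _ w
      rw [one_pow, one_smul] at hw
      exact ⟨z, (Submodule.Quotient.eq _).1 hw⟩
  · rintro ⟨hproj, hinj, hsurj⟩
    haveI := hproj
    let E := engel A a
    have haE : a ∈ E := self_mem_engel A a
    haveI := finite_of_projective_quotient E
    obtain ⟨N, hN⟩ : IsNilpotent (ad A E ⟨a, haE⟩) := by
      rw [Module.End.isNilpotent_iff_of_finite]
      intro e
      obtain ⟨n, hn⟩ := (mem_engel_iff A a (e : L)).1 e.2
      exact ⟨n, Subtype.ext (by rw [coe_ad_pow_sub]; exact hn)⟩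
    have hbij : Function.Bijective (adQ E a haE) := by
      refine ⟨(injective_iff_map_eq_zero _).2 fun w hw => ?_, fun w => ?_⟩
      · obtain ⟨z, rfl⟩ := Submodule.Quotient.mk_surjective _ w
        exact (Submodule.Quotient.mk_eq_zero _).2 (hinj z ((Submodule.Quotient.mk_eq_zero E.toSubmodule).1 hw))
      · obtain ⟨y, rfl⟩ := Submodule.Quotient.mk_surjective _ w
        obtain ⟨z, hz⟩ := hsurj y
        exact ⟨Submodule.Quotient.mk z, (Submodule.Quotient.eq E.toSubmodule).2 hz⟩
    have hfib : ∀ p : PrimeSpectrum A, fib p.asIdeal.ResidueField E =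
        engel p.asIdeal.ResidueField ((1 : p.asIdeal.ResidueField) ⊗ₜ[A] a) := by
      intro p
      set K := p.asIdeal.ResidueField
      have hadK : ad K (K ⊗[A] L) ((1 : K) ⊗ₜ[A] a) = (ad A L a).baseChange K :=
        LieModule.toEnd_baseChange A K L L a
      refine le_antisymm ?_ fun x hx => ?_
      · intro x hx
        obtain ⟨z, rfl⟩ := mem_fib.1 hx
        refine (mem_engel_iff K _ _).2 ⟨N, ?_⟩
        rw [hadK, ← LinearMap.baseChange_pow, bcHom_apply, ← LinearMap.comp_apply, ← LinearMap.baseChange_comp,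
          show ((ad A L a) ^ N) ∘ₗ (E.incl : E →ₗ[A] L) = 0 from LinearMap.ext fun e =>
            (coe_ad_pow_sub E ⟨a, haE⟩ e N).symm.trans (by rw [hN]; rfl),
          LinearMap.baseChange_zero, LinearMap.zero_apply]
      · obtain ⟨n, hn⟩ := (mem_engel_iff K _ x).1 hx
        rw [hadK, ← LinearMap.baseChange_pow] at hn
        refine mem_fib_iff_mkQ.2 ?_
        have h1 : ((adQ E a haE) ^ n).baseChange K (E.toSubmodule.mkQ.baseChange K x) = 0 := by
          rw [← LinearMap.comp_apply, ← LinearMap.baseChange_comp,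
            show ((adQ E a haE) ^ n) ∘ₗ E.toSubmodule.mkQ = E.toSubmodule.mkQ ∘ₗ (ad A L a) ^ n from
              LinearMap.ext fun y => adQ_pow_mk E a haE n y,
            LinearMap.baseChange_comp, LinearMap.comp_apply, hn, map_zero]
        let eQ := (LinearEquiv.ofBijective ((adQ E a haE) ^ n) (by
          rw [Module.End.coe_pow]; exact hbij.iterate n)).baseChange A K
        exact eQ.injective (h1.trans (map_zero _).symm)
    refine ⟨E, ⟨hproj, fun p => ⟨?_, ?_, ?_⟩⟩, haE⟩
    · haveI : LieRing.IsNilpotent (bcHom p.asIdeal.ResidueField E.incl).range := by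
        show LieRing.IsNilpotent (fib p.asIdeal.ResidueField E)
        rw [hfib p]
        exact isNilpotent_engel_of_isRegular (hq p)
      refine Function.Injective.lieAlgebra_isNilpotent (f := (bcHom p.asIdeal.ResidueField E.incl).rangeRestrict)
        fun x y hxy => bcHom_incl_injective _ E (congrArg Subtype.val hxy)
    · intro x hx
      rw [fibreSubmodule_eq, hfib] at hx ⊢
      have h1 : x ∈ normalizer (engel p.asIdeal.ResidueField ((1 : p.asIdeal.ResidueField) ⊗ₜ[A] a)) :=
        (mem_normalizer_iff _ _).2 hx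
      rwa [normalizer_engel] at h1
    · rw [fibreSubmodule_eq, hfib]
      exact (isRegular_iff_finrank_engel_eq_rank _ _).1 (hq p)

theorem rk_eq_rankAtStalk [Module.Projective A L] {H : LieSubalgebra A L} (hH : IsCartanRel H) (p : PrimeSpectrum A) :
    rk L p = Module.rankAtStalk (R := A) H p := by
  haveI := hH.1
  haveI := finite_of_projective_quotient H
  haveI := projective_of_projective_quotient H
  rw [Module.rankAtStalk_eq, ← finrank_fib hH p]
  exact (LinearEquiv.ofBijective (bcHom p.asIdeal.ResidueField H.incl).rangeRestrict.toLinearMap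
    ⟨fun x y hxy => bcHom_incl_injective _ H (congrArg Subtype.val hxy),
      LieHom.surjective_rangeRestrict _⟩).finrank_eq.symm

theorem isLocallyConstant_rk [Module.Projective A L] {H : LieSubalgebra A L} (hH : IsCartanRel H) :
    IsLocallyConstant (rk (A := A) L) := by
  haveI := hH.1
  haveI := finite_of_projective_quotient H
  haveI := projective_of_projective_quotient H
  haveI : Module.FinitePresentation A H := Module.finitePresentation_of_projective A H
  rw [show rk (A := A) L = Module.rankAtStalk (R := A) H from funext (rk_eq_rankAtStalk hH)]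
  exact Module.isLocallyConstant_rankAtStalk

omit [Module.Finite A L] in
theorem exists_smul_eq_one_tmul {M : Type u} [AddCommGroup M] [Module A M] (p : PrimeSpectrum A)
    (x : p.asIdeal.ResidueField ⊗[A] M) :
    ∃ u : A, u ∉ p.asIdeal ∧ ∃ m : M, algebraMap A p.asIdeal.ResidueField u • x = 1 ⊗ₜ[A] m := by
  induction x using TensorProduct.induction_on with
  | zero => exact ⟨1, fun h => p.isPrime.ne_top ((Ideal.eq_top_iff_one _).2 h), 0, by simp⟩
  | tmul r y =>
    obtain ⟨⟨v, ⟨d, hd⟩⟩, hr⟩ := IsLocalization.surj (nonZeroDivisors (A ⧸ p.asIdeal)) r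
    obtain ⟨v, rfl⟩ := Ideal.Quotient.mk_surjective v
    obtain ⟨u, rfl⟩ := Ideal.Quotient.mk_surjective d
    refine ⟨u, fun hu => (nonZeroDivisors.ne_zero hd) (Ideal.Quotient.eq_zero_iff_mem.2 hu), v • y, ?_⟩
    have h1 : r * algebraMap A p.asIdeal.ResidueField u = algebraMap A p.asIdeal.ResidueField v := hr
    rw [TensorProduct.smul_tmul', smul_eq_mul, mul_comm, h1, Algebra.algebraMap_eq_smul_one, TensorProduct.smul_tmul]
  | add y z hy hz =>
    obtain ⟨u, hu, m, hm⟩ := hy
    obtain ⟨v, hv, n, hn⟩ := hz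
    refine ⟨u * v, fun h => (p.isPrime.mem_or_mem h).elim hu hv, v • m + u • n, ?_⟩
    rw [map_mul, smul_add, mul_comm (algebraMap A p.asIdeal.ResidueField u), mul_smul, hm,
      mul_comm, mul_smul, hn, TensorProduct.tmul_add, TensorProduct.tmul_smul, TensorProduct.tmul_smul,
      algebraMap_smul, algebraMap_smul]

theorem algebraMap_ne_zero {p : PrimeSpectrum A} {u : A} (hu : u ∉ p.asIdeal) :
    algebraMap A p.asIdeal.ResidueField u ≠ 0 := fun h => hu (Ideal.algebraMap_residueField_eq_zero.1 h)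

theorem map_eq_iff [Module.Projective A L] (H : LieSubalgebra A L) (hH : IsCartanRel H) (a : L) (haH : a ∈ H)
    (ha : IsQuasiRegular A L a) (u : L ≃ₗ⁅A⁆ L) : H.map u.toLieHom = H ↔ u a ∈ H := by
  constructor
  · intro h
    rw [← h]
    exact ⟨a, haH, rfl⟩
  · intro hua
    have hq : IsQuasiRegular A L (u a) := fun p => by
      rw [← bcEquiv_tmul, isRegular_congr]
      exact ha p
    ext y
    constructor
    · rintro ⟨x, hx, rfl⟩
      rw [eq_engel hH hua hq]
      exact (engel_map u a x).2 (eq_engel hH haH ha ▸ hx)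
    · intro hy
      refine ⟨u.symm y, ?_, u.apply_symm_apply y⟩
      rw [eq_engel hH hua hq, ← u.apply_symm_apply y] at hy
      show u.symm y ∈ H
      rw [eq_engel hH haH ha]
      exact (engel_map u a _).1 hy

theorem near_point [Module.Projective A L] (H : LieSubalgebra A L) (hH : IsCartanRel H) (p : PrimeSpectrum A)
    (hp : Infinite p.asIdeal.ResidueField) :
    ∃ f : A, f ∉ p.asIdeal ∧ ∃ a : L, a ∈ H ∧
      (∀ q : PrimeSpectrum A, f ∉ q.asIdeal →
        LieAlgebra.IsRegular q.asIdeal.ResidueField ((1 : q.asIdeal.ResidueField) ⊗ₜ[A] a)) ∧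
      H ≤ engel A a ∧ ∀ y : L, y ∈ engel A a → ∃ n : ℕ, f ^ n • y ∈ H := by
  haveI := fib_isNilpotent hH p
  obtain ⟨x, hx, hHx⟩ := exists_eq_engel (fib p.asIdeal.ResidueField H) fun x hx => by
    have h := (hH.2 p).2.1 x
    simp only [fibreSubmodule_eq, LieSubalgebra.mem_toSubmodule] at h
    exact h hx
  have hreg : LieAlgebra.IsRegular p.asIdeal.ResidueField x := by
    rw [isRegular_iff_finrank_engel_eq_rank, ← hHx]
    exact finrank_fib hH p
  obtain ⟨z, rfl⟩ := mem_fib.1 hx
  obtain ⟨u, hu, h, hh⟩ := exists_smul_eq_one_tmul p z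
  have hrega : LieAlgebra.IsRegular p.asIdeal.ResidueField ((1 : p.asIdeal.ResidueField) ⊗ₜ[A] (h : L)) := by
    rw [show (1 : p.asIdeal.ResidueField) ⊗ₜ[A] (h : L) = bcHom _ H.incl (1 ⊗ₜ[A] h) from rfl, ← hh, map_smul,
      isRegular_smul (algebraMap_ne_zero hu)]
    exact hreg
  obtain ⟨_, ⟨f, rfl⟩, hf, hsub⟩ := PrimeSpectrum.isTopologicalBasis_basic_opens.exists_subset_of_mem_open
    (show p ∈ {q : PrimeSpectrum A |
      LieAlgebra.IsRegular q.asIdeal.ResidueField ((1 : q.asIdeal.ResidueField) ⊗ₜ[A] (h : L))} from hrega)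
    (isOpen_regular (isLocallyConstant_rk hH) _)
  exact ⟨f, hf, h, h.2, fun q hq => hsub hq, le_engel hH h.2,
    fun y hy => exists_pow_smul_mem_of_mem_engel hH h.2 f (fun q hq => hsub hq) hy⟩

theorem isLocallyConstant_of_C0
    (hC0 : ∀ p : PrimeSpectrum A, ∃ f : A, f ∉ p.asIdeal ∧ ∀ q : PrimeSpectrum A, f ∉ q.asIdeal →
      rk L q = rk L p) : IsLocallyConstant (rk (A := A) L) := by
  refine (IsLocallyConstant.iff_exists_open _).2 fun p => ?_
  obtain ⟨f, hf, h⟩ := hC0 p
  exact ⟨{q | f ∉ q.asIdeal}, (PrimeSpectrum.basicOpen f).2, hf, h⟩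

theorem C0_of_isLocallyConstant (h : IsLocallyConstant (rk (A := A) L)) (p : PrimeSpectrum A) :
    ∃ f : A, f ∉ p.asIdeal ∧ ∀ q : PrimeSpectrum A, f ∉ q.asIdeal → rk L q = rk L p := by
  obtain ⟨_, ⟨f, rfl⟩, hf, hsub⟩ := PrimeSpectrum.isTopologicalBasis_basic_opens.exists_subset_of_mem_open
    (show p ∈ {q : PrimeSpectrum A | rk L q = rk L p} from rfl) (h.isOpen_fiber _)
  exact ⟨f, hf, fun q hq => hsub hq⟩

theorem isLocallyConstant_rk_of_faithfullyFlat [Module.Projective A L] (A' : Type u) [CommRing A'] [Algebra A A']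
    [Module.FaithfullyFlat A A'] {H : LieSubalgebra A' (A' ⊗[A] L)} (hH : IsCartanRel H) :
    IsLocallyConstant (rk (A := A) L) := by
  have hq : Topology.IsQuotientMap (PrimeSpectrum.comap (algebraMap A A')) :=
    PrimeSpectrum.isQuotientMap_of_generalizingMap PrimeSpectrum.comap_surjective_of_faithfullyFlat
      (RingHom.Flat.generalizingMap_comap (RingHom.flat_algebraMap_iff.2 inferInstance))
  intro s
  rw [← hq.isOpen_preimage]
  have h : PrimeSpectrum.comap (algebraMap A A') ⁻¹' (rk (A := A) L ⁻¹' s) = rk (A := A') (A' ⊗[A] L) ⁻¹' s := by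
    ext q
    simp only [Set.mem_preimage, rk_baseChange]
  rw [h]
  exact isLocallyConstant_rk hH s

theorem quasiRegular_away [Module.Projective A L] (f : A) (a : L)
    (h : ∀ q : PrimeSpectrum A, f ∉ q.asIdeal →
      LieAlgebra.IsRegular q.asIdeal.ResidueField ((1 : q.asIdeal.ResidueField) ⊗ₜ[A] a)) :
    IsQuasiRegular (Localization.Away f) (Localization.Away f ⊗[A] L) ((1 : Localization.Away f) ⊗ₜ[A] a) :=
  fun q => (regular_baseChange q a).2 (h _ fun hf => q.isPrime.ne_top (Ideal.eq_top_of_isUnit_mem _ hf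
    (IsLocalization.map_units (M := Submonoid.powers f) _ ⟨f, Submonoid.mem_powers f⟩)))

theorem exists_regular_nbhd [Module.Projective A L] (hC0 : IsLocallyConstant (rk (A := A) L)) (p : PrimeSpectrum A)
    (hp : ∃ x : p.asIdeal.ResidueField ⊗[A] L, LieAlgebra.IsRegular p.asIdeal.ResidueField x) :
    ∃ f : A, f ∉ p.asIdeal ∧ ∃ a : L, ∀ q : PrimeSpectrum A, f ∉ q.asIdeal →
      LieAlgebra.IsRegular q.asIdeal.ResidueField ((1 : q.asIdeal.ResidueField) ⊗ₜ[A] a) := by
  obtain ⟨x, hx⟩ := hp
  obtain ⟨u, hu, a, ha⟩ := exists_smul_eq_one_tmul p x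
  rw [← isRegular_smul (algebraMap_ne_zero hu), ha] at hx
  obtain ⟨_, ⟨f, rfl⟩, hf, hsub⟩ := PrimeSpectrum.isTopologicalBasis_basic_opens.exists_subset_of_mem_open
    (show p ∈ {q : PrimeSpectrum A |
      LieAlgebra.IsRegular q.asIdeal.ResidueField ((1 : q.asIdeal.ResidueField) ⊗ₜ[A] a)} from hx)
    (isOpen_regular hC0 _)
  exact ⟨f, hf, a, fun q hq => hsub hq⟩

/-- Glue quasi-regular elements on a covering by basic opens. -/
theorem exists_etale_quasiRegular [Module.Projective A L] (hC0 : IsLocallyConstant (rk (A := A) L))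
    (hreg : ∀ p : PrimeSpectrum A, ∃ x : p.asIdeal.ResidueField ⊗[A] L,
      LieAlgebra.IsRegular p.asIdeal.ResidueField x) :
    ∃ (A' : Type u) (_ : CommRing A') (_ : Algebra A A'), Algebra.Etale A A' ∧ Module.FaithfullyFlat A A' ∧
      ∃ a' : A' ⊗[A] L, IsQuasiRegular A' (A' ⊗[A] L) a' := by
  classical
  choose f hf a ha using fun p => exists_regular_nbhd hC0 p (hreg p)
  have hspan : Ideal.span (Set.range f) = ⊤ := by
    by_contra hne
    obtain ⟨m, hm, hle⟩ := Ideal.exists_le_maximal _ hne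
    exact hf ⟨m, hm.isPrime⟩ (hle (Ideal.subset_span ⟨_, rfl⟩))
  obtain ⟨t, ht, htop⟩ := (Ideal.span_eq_top_iff_finite _).1 hspan
  choose π hπ using fun i : t => ht i.2
  let A' := ∀ i : t, Localization.Away (i : A)
  haveI hflat : Module.Flat A A' := inferInstance
  have hunit : ∀ i : t, IsUnit (algebraMap A (Localization.Away (i : A)) (i : A)) := fun i =>
    IsLocalization.map_units (M := Submonoid.powers (i : A)) _ ⟨i, Submonoid.mem_powers _⟩
  have hsurj : Function.Surjective (PrimeSpectrum.comap (algebraMap A A')) := by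
    intro p
    obtain ⟨i, hi⟩ : ∃ i : t, (i : A) ∉ p.asIdeal := by
      by_contra! hall
      exact p.isPrime.ne_top (top_le_iff.1 (htop ▸ Ideal.span_le.2 fun x hx => hall ⟨x, hx⟩))
    obtain ⟨q, hq⟩ : p ∈ Set.range (PrimeSpectrum.comap (algebraMap A (Localization.Away (i : A)))) := by
      rw [PrimeSpectrum.localization_away_comap_range _ (i : A)]
      exact hi
    exact ⟨PrimeSpectrum.comap (Pi.evalRingHom (fun i : t => Localization.Away (i : A)) i) q, hq⟩
  refine ⟨A', inferInstance, inferInstance, inferInstance,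
    Module.FaithfullyFlat.of_comap_surjective hsurj,
    ∑ i : t, (Pi.single i 1 : A') ⊗ₜ[A] a (π i), fun q => ?_⟩
  obtain ⟨i₀, hi₀⟩ : ∃ i : t, (Pi.single i 1 : A') ∉ q.asIdeal := by
    by_contra! hall
    refine q.isPrime.ne_top ((Ideal.eq_top_iff_one _).2 ?_)
    rw [show (1 : A') = ∑ i : t, Pi.single i 1 from (Finset.univ_sum_single (1 : A')).symm]
    exact sum_mem fun i _ => hall i
  set K := q.asIdeal.ResidueField
  have hz : ∀ j, j ≠ i₀ → algebraMap A' K (Pi.single j 1) = 0 := fun j hj =>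
    Ideal.algebraMap_residueField_eq_zero.2 ((q.isPrime.mem_or_mem (show (Pi.single j 1 : A') * Pi.single i₀ 1 ∈ q.asIdeal by
      rw [show (Pi.single j 1 : A') * Pi.single i₀ 1 = 0 from funext fun l => by
        by_cases hl : l = j
        · subst hl
          simp [Pi.single_eq_of_ne hj]
        · simp [Pi.single_eq_of_ne hl]]
      exact zero_mem _)).resolve_right hi₀)
  have h1 : algebraMap A' K (Pi.single i₀ 1) = 1 := by
    rw [← map_one (algebraMap A' K), show (1 : A') = ∑ i : t, Pi.single i 1 from (Finset.univ_sum_single (1 : A')).symm,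
      map_sum, Finset.sum_eq_single i₀ (fun j _ hj => hz j hj) fun h => absurd (Finset.mem_univ _) h]
  rw [← isRegular_congr (cancelEquiv (A := A) (B := A') (L := L) K), TensorProduct.tmul_sum, map_sum,
    Finset.sum_eq_single i₀ (fun j _ hj => by
      rw [cancelEquiv_tmul, Algebra.smul_def, hz j hj, zero_mul, TensorProduct.zero_tmul])
      (fun h => absurd (Finset.mem_univ _) h),
    cancelEquiv_tmul, Algebra.smul_def, h1, one_mul, regular_at]
  refine ha _ _ fun hmem => hi₀ ?_
  rw [hπ i₀] at hmem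
  have h0 : algebraMap A' K (algebraMap A A' (i₀ : A)) = 0 := by
    rw [← IsScalarTower.algebraMap_apply]
    exact hmem
  obtain ⟨v, hv⟩ := (hunit i₀).exists_left_inv
  have h3 : (Pi.single i₀ 1 : A') = Pi.single i₀ v * algebraMap A A' (i₀ : A) := funext fun l => by
    by_cases hl : l = i₀
    · subst hl
      rw [Pi.mul_apply, Pi.single_eq_same, Pi.single_eq_same]
      exact hv.symm
    · rw [Pi.mul_apply]
      simp [hl]
  rw [h3]
  exact Ideal.mul_mem_left _ _ (Ideal.algebraMap_residueField_eq_zero.1 h0)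

end

end Groth.Agent.H66.Cartan
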