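import Groth.Agent.H66.Cartan.Main
import Mathlib

/-! Quasi-regular elements are regular over a reduced base of locally constant rank. -/

set_option autoImplicit false
set_option linter.unusedSectionVars false

universe u

open TensorProduct Module LieAlgebra LieSubalgebra SGA3t2b

namespace Groth.Agent.H66.Cartan

noncomputable section

attribute [local instance 100] LieRing.ofAssociativeRing

theorem ad_tensor {R : Type u} [CommRing R] (T : Type u) [CommRing T] [Algebra R T] (M : Type u) [LieRing M]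
    [LieAlgebra R M] :
    (ad T (T ⊗[R] M)).toLinearMap = LinearMap.tensorProduct R T M M ∘ₗ ((ad R M).toLinearMap.baseChange T) := by
  refine TensorProduct.AlgebraTensorModule.ext fun a x => LinearMap.ext fun z => ?_
  induction z using TensorProduct.induction_on with
  | zero => simp
  | add p q hp hq => simp only [map_add, hp, hq]
  | tmul c y =>
    simp [LinearMap.tensorProduct, TensorProduct.smul_tmul', LieAlgebra.ExtendScalars.bracket_tmul]

/-- Over a reduced ring with constant fibre rank `c`, the coefficients below `c` of the generic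
characteristic polynomial vanish. -/
theorem polyCharpoly_coeff_eq_zero {S : Type u} [CommRing S] [IsReduced S] {M : Type u} [LieRing M] [LieAlgebra S M]
    [Module.Finite S M] [Module.Free S M] {ι : Type*} [Fintype ι] [DecidableEq ι] (b : Module.Basis ι S M) (c : ℕ)
    (hc : ∀ q : PrimeSpectrum S, rk M q = c) {i : ℕ} (hi : i < c) :
    (LinearMap.polyCharpoly (ad S M).toLinearMap b).coeff i = 0 := by
  refine MvPolynomial.ext _ _ fun d => ?_
  rw [MvPolynomial.coeff_zero]
  refine IsReduced.eq_zero _ ?_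
  rw [← mem_nilradical, nilradical_eq_sInf, Ideal.mem_sInf]
  suffices key : ∀ q : PrimeSpectrum S,
      ((LinearMap.polyCharpoly (ad S M).toLinearMap b).coeff i).coeff d ∈ q.asIdeal from
    fun P hP => key ⟨P, hP⟩
  intro q
  have h1 : ((LinearMap.polyCharpoly (ad S M).toLinearMap b).map
      (MvPolynomial.map (algebraMap S q.asIdeal.ResidueField))).coeff i = 0 := by
    apply Polynomial.coeff_eq_zero_of_lt_natTrailingDegree
    rw [← LinearMap.polyCharpoly_baseChange, ← ad_tensor,
      ← LieAlgebra.rank_eq_natTrailingDegree q.asIdeal.ResidueField (q.asIdeal.ResidueField ⊗[S] M)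
        (Algebra.TensorProduct.basis q.asIdeal.ResidueField b)]
    show i < rk M q
    rw [hc]
    exact hi
  rw [Polynomial.coeff_map] at h1
  have h2 := congrArg (MvPolynomial.coeff d) h1
  rw [MvPolynomial.coeff_map, MvPolynomial.coeff_zero] at h2
  exact Ideal.algebraMap_residueField_eq_zero.1 h2

variable {A : Type u} [CommRing A] {L : Type u} [LieRing L] [LieAlgebra A L] [Module.Finite A L]

theorem rk_le {n : ℕ} (g : (Fin n → A) →ₗ[A] L) (hg : Function.Surjective g) (p : PrimeSpectrum A) : rk L p ≤ n := by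
  refine (LieAlgebra.rank_le_finrank _ _).trans ?_
  have h1 := LinearMap.finrank_le_finrank_of_surjective (f := g.baseChange p.asIdeal.ResidueField)
    (LinearMap.lTensor_surjective _ hg)
  haveI : Nontrivial A := ⟨1, 0, fun h => p.isPrime.ne_top ((Ideal.eq_top_iff_one _).2 (h ▸ zero_mem _))⟩
  have h2 : finrank p.asIdeal.ResidueField (p.asIdeal.ResidueField ⊗[A] (Fin n → A)) = n := by
    rw [Module.finrank_baseChange, Module.finrank_fin_fun]
  exact h1.trans h2.le

theorem conj_ad {R : Type u} [CommRing R] {N N' : Type u} [LieRing N] [LieAlgebra R N] [LieRing N']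
    [LieAlgebra R N'] (e : N ≃ₗ⁅R⁆ N') (x : N) : e.toLinearEquiv.conj (ad R N x) = ad R N' (e x) := by
  refine LinearMap.ext fun y => ?_
  show e ⁅x, e.symm y⁆ = ⁅e x, y⁆
  rw [LieEquiv.map_lie, e.apply_symm_apply]

/-- Locally on `Spec A'`, the kernels and images of the powers of `ad a'` are stationary. -/
theorem local_stationary [Module.Projective A L] [IsReduced A] (hC0 : IsLocallyConstant (rk (A := A) L))
    {A' : Type u} [CommRing A'] [Algebra A A'] {a' : A' ⊗[A] L} (ha' : IsQuasiRegular A' (A' ⊗[A] L) a')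
    {n : ℕ} (hn : ∀ p : PrimeSpectrum A, rk L p ≤ n) (P : PrimeSpectrum A') :
    (∀ y, ∃ t : A', t ∉ P.asIdeal ∧
        t • ((ad A' _ a') ^ n) y ∈ LinearMap.range ((ad A' (A' ⊗[A] L) a') ^ (n + 1))) ∧
      (∀ y, ((ad A' _ a') ^ (n + 1)) y = 0 →
        ∃ t : A', t ∉ P.asIdeal ∧ t • ((ad A' (A' ⊗[A] L) a') ^ n) y = 0) := by
  classical
  set p := PrimeSpectrum.comap (algebraMap A A') P with hp
  obtain ⟨f0, hf0, hconst⟩ := C0_of_isLocallyConstant hC0 p
  obtain ⟨s, hs, hfree⟩ := exists_free_chart (L := L) p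
  let S₀ := Localization.Away s
  let σ : A := s * f0
  have hσ : σ ∉ p.asIdeal := fun h => (p.isPrime.mem_or_mem h).elim hs hf0
  let S := Localization.Away σ
  letI : Algebra S₀ S := (IsLocalization.liftAlgHom (M := Submonoid.powers s) (f := Algebra.ofId A S)
    (fun y => by
      obtain ⟨_, m, rfl⟩ := y
      show IsUnit (algebraMap A S (s ^ m))
      rw [map_pow]
      refine IsUnit.pow m (isUnit_of_mul_isUnit_left (y := algebraMap A S f0) ?_)
      rw [← map_mul]
      exact IsLocalization.map_units (M := Submonoid.powers σ) S ⟨σ, Submonoid.mem_powers _⟩)).toRingHom.toAlgebra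
  haveI : IsScalarTower A S₀ S :=
    IsScalarTower.of_algebraMap_eq fun r => by
      rw [RingHom.algebraMap_toAlgebra]
      exact (AlgHom.commutes _ r).symm
  haveI : Module.Free S₀ (S₀ ⊗[A] L) := hfree
  haveI : Module.Free S (S ⊗[A] L) :=
    Module.Free.of_equiv (cancelEquiv (A := A) (B := S₀) (L := L) S).toLinearEquiv
  haveI : IsReduced S := isReduced_localizationPreserves (Submonoid.powers σ) S inferInstance
  let c := rk L p
  have hcS : ∀ q : PrimeSpectrum S, rk (S ⊗[A] L) q = c := fun q => by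
    rw [rk_baseChange]
    refine hconst _ fun h => q.isPrime.ne_top (Ideal.eq_top_of_isUnit_mem _ (Ideal.mem_comap.1 h) ?_)
    refine isUnit_of_mul_isUnit_right (x := algebraMap A S s) ?_
    rw [← map_mul]
    exact IsLocalization.map_units (M := Submonoid.powers σ) S ⟨σ, Submonoid.mem_powers _⟩
  let g : A' := algebraMap A A' σ
  have hg : g ∉ P.asIdeal := hσ
  let T := Localization.Away g
  letI : Algebra S T := (IsLocalization.liftAlgHom (M := Submonoid.powers σ) (f := Algebra.ofId A T)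
    (fun y => by
      obtain ⟨_, m, rfl⟩ := y
      show IsUnit (algebraMap A T (σ ^ m))
      rw [map_pow, IsScalarTower.algebraMap_apply A A' T]
      exact (IsLocalization.map_units (M := Submonoid.powers g) T ⟨g, Submonoid.mem_powers _⟩).pow m)
    ).toRingHom.toAlgebra
  haveI : IsScalarTower A S T := IsScalarTower.of_algebraMap_eq fun r => by
      rw [RingHom.algebraMap_toAlgebra]
      exact (AlgHom.commutes _ r).symm
  let e : T ⊗[A'] (A' ⊗[A] L) ≃ₗ⁅T⁆ T ⊗[S] (S ⊗[A] L) :=
    (cancelEquiv (A := A) (B := A') (L := L) T).trans (cancelEquiv (A := A) (B := S) (L := L) T).symm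
  let b := Module.Free.chooseBasis S (S ⊗[A] L)
  haveI : Module.Free T (T ⊗[A'] (A' ⊗[A] L)) := Module.Free.of_equiv e.toLinearEquiv.symm
  set F := ad T (T ⊗[A'] (A' ⊗[A] L)) ((1 : T) ⊗ₜ[A'] a') with hF
  set χ := LinearMap.charpoly F with hχ
  have hlow : ∀ i < c, χ.coeff i = 0 := by
    intro i hi
    have h := LinearMap.polyCharpoly_coeff_eval (ad T (T ⊗[S] (S ⊗[A] L))).toLinearMap
      (Algebra.TensorProduct.basis T b) (e ((1 : T) ⊗ₜ[A'] a')) i
    rw [ad_tensor, LinearMap.polyCharpoly_baseChange, Polynomial.coeff_map,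
      polyCharpoly_coeff_eq_zero b c hcS hi, map_zero, map_zero, ← ad_tensor] at h
    rw [hχ, ← LinearEquiv.charpoly_conj e.toLinearEquiv, hF, conj_ad]
    exact h.symm
  have hunit : IsUnit (χ.coeff c) := by
    by_contra hnu
    obtain ⟨m, hm, hmem⟩ := exists_max_ideal_of_mem_nonunits hnu
    let q : PrimeSpectrum T := ⟨m, hm.isPrime⟩
    set K := q.asIdeal.ResidueField
    let q' := PrimeSpectrum.comap (algebraMap A' T) q
    have h1 : LieAlgebra.IsRegular K ((1 : K) ⊗ₜ[T] ((1 : T) ⊗ₜ[A'] a')) := (regular_baseChange q a').2 (ha' _)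
    have h2 : LieAlgebra.rank K (K ⊗[T] (T ⊗[A'] (A' ⊗[A] L))) = c := by
      show rk (T ⊗[A'] (A' ⊗[A] L)) q = c
      rw [rk_baseChange, rk_baseChange]
      refine hconst _ fun h => q.isPrime.ne_top (Ideal.eq_top_of_isUnit_mem _
        (Ideal.mem_comap.1 (Ideal.mem_comap.1 h)) ?_)
      refine isUnit_of_mul_isUnit_right (x := algebraMap A' T (algebraMap A A' s)) ?_
      rw [← map_mul, ← map_mul]
      exact IsLocalization.map_units (M := Submonoid.powers g) T ⟨g, Submonoid.mem_powers _⟩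
    rw [LieAlgebra.isRegular_def, h2,
      show ad K (K ⊗[T] (T ⊗[A'] (A' ⊗[A] L))) ((1 : K) ⊗ₜ[T] ((1 : T) ⊗ₜ[A'] a')) = F.baseChange K from
        LieModule.toEnd_baseChange T K _ _ _,
      LinearMap.charpoly_baseChange, Polynomial.coeff_map] at h1
    exact h1 (Ideal.algebraMap_residueField_eq_zero.2 hmem)
  obtain ⟨G, hG⟩ : (Polynomial.X : Polynomial T) ^ c ∣ χ := Polynomial.X_pow_dvd_iff.2 hlow
  have hG0 : IsUnit (G.coeff 0) := by
    rw [hG, Polynomial.coeff_X_pow_mul', if_pos le_rfl, Nat.sub_self] at hunit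
    exact hunit
  -- Cayley–Hamilton
  have hCH : G.coeff 0 • F ^ c = -(F ^ (c + 1) * Polynomial.aeval F G.divX) := by
    have h := LinearMap.aeval_self_charpoly F
    rw [← hχ, hG, map_mul, Polynomial.aeval_X_pow, ← Polynomial.divX_mul_X_add G, map_add, map_mul,
      Polynomial.aeval_X, Polynomial.aeval_C, mul_add, ← Algebra.commutes, ← Algebra.smul_def] at h
    rw [show Polynomial.aeval F G.divX * F = F * Polynomial.aeval F G.divX by
      have hc := congrArg (Polynomial.aeval F) (mul_comm G.divX Polynomial.X)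
      rwa [map_mul, map_mul, Polynomial.aeval_X] at hc, ← mul_assoc, ← pow_succ] at h
    exact eq_neg_of_add_eq_zero_right h
  have hcn : c ≤ n := hn p
  obtain ⟨d, rfl⟩ := Nat.exists_eq_add_of_le hcn
  have key : ∀ y, (F ^ (c + d)) y = (F ^ (c + d + 1)) ((hG0.unit⁻¹ : Tˣ).val • -Polynomial.aeval F G.divX y) := by
    intro y
    have h1 : G.coeff 0 • (F ^ (c + d)) y = -((F ^ (c + d + 1)) (Polynomial.aeval F G.divX y)) := by
      rw [add_comm c d, pow_add, Module.End.mul_apply, ← map_smul, ← LinearMap.smul_apply, hCH, LinearMap.neg_apply,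
        map_neg, Module.End.mul_apply, ← Module.End.mul_apply, ← pow_add, add_assoc]
    rw [map_smul, map_neg, ← h1, smul_smul, IsUnit.val_inv_mul, one_smul]
  have hbc : ∀ (m : ℕ) (z : A' ⊗[A] L),
      (F ^ m) ((1 : T) ⊗ₜ[A'] z) = (1 : T) ⊗ₜ[A'] (((ad A' (A' ⊗[A] L) a') ^ m) z) := by
    intro m z
    rw [hF, show ad T (T ⊗[A'] (A' ⊗[A] L)) ((1 : T) ⊗ₜ[A'] a') = (ad A' (A' ⊗[A] L) a').baseChange T from
      LieModule.toEnd_baseChange A' T _ _ a', ← LinearMap.baseChange_pow, LinearMap.baseChange_tmul]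
  have hpow : ∀ m : ℕ, g ^ m ∉ P.asIdeal := fun m h => hg (P.isPrime.mem_of_pow_mem m h)
  refine ⟨fun y => ?_, fun y hy => ?_⟩
  · obtain ⟨⟨v, ⟨_, j, rfl⟩⟩, hv⟩ := IsLocalizedModule.surj (Submonoid.powers g)
      (TensorProduct.mk A' T (A' ⊗[A] L) 1) ((hG0.unit⁻¹ : Tˣ).val • -Polynomial.aeval F G.divX ((1 : T) ⊗ₜ[A'] y))
    have h1 : (1 : T) ⊗ₜ[A'] (g ^ j • ((ad A' (A' ⊗[A] L) a') ^ (c + d)) y -
        ((ad A' (A' ⊗[A] L) a') ^ (c + d + 1)) v) = 0 := by
      rw [TensorProduct.tmul_sub, TensorProduct.tmul_smul, ← hbc, ← hbc, key, ← LinearMap.map_smul_of_tower]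
      rw [show g ^ j • ((hG0.unit⁻¹ : Tˣ).val • -Polynomial.aeval F G.divX ((1 : T) ⊗ₜ[A'] y)) =
        (1 : T) ⊗ₜ[A'] v from hv, sub_self]
    obtain ⟨⟨_, i, rfl⟩, hi⟩ :=
      (IsLocalizedModule.eq_zero_iff (Submonoid.powers g) (TensorProduct.mk A' T (A' ⊗[A] L) 1)).1 h1
    refine ⟨g ^ i * g ^ j, by rw [← pow_add]; exact hpow _, g ^ i • v, ?_⟩
    simp only [Submonoid.smul_def] at hi
    rw [smul_sub, smul_smul, sub_eq_zero] at hi
    rw [map_smul, hi]
  · have h1 : (1 : T) ⊗ₜ[A'] ((ad A' (A' ⊗[A] L) a') ^ (c + d)) y = 0 := by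
      rw [← hbc, key, map_smul, map_neg, ← Module.End.mul_apply,
        show F ^ (c + d + 1) * Polynomial.aeval F G.divX = Polynomial.aeval F G.divX * F ^ (c + d + 1) by
          have hc := congrArg (Polynomial.aeval F) (mul_comm (Polynomial.X ^ (c + d + 1)) G.divX)
          rwa [map_mul, map_mul, Polynomial.aeval_X_pow] at hc,
        Module.End.mul_apply, hbc, hy, TensorProduct.tmul_zero, map_zero, neg_zero, smul_zero]
    obtain ⟨⟨_, i, rfl⟩, hi⟩ :=
      (IsLocalizedModule.eq_zero_iff (Submonoid.powers g) (TensorProduct.mk A' T (A' ⊗[A] L) 1)).1 h1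
    exact ⟨g ^ i, hpow i, hi⟩

/-- Over a reduced base with locally constant rank, quasi-regular elements are regular. -/
theorem isRegularRel_of_reduced [Module.Projective A L] [IsReduced A] (hC0 : IsLocallyConstant (rk (A := A) L))
    (A' : Type u) [CommRing A'] [Algebra A A'] (a' : A' ⊗[A] L) (ha' : IsQuasiRegular A' (A' ⊗[A] L) a') :
    IsRegularRel A' (A' ⊗[A] L) a' := by
  obtain ⟨n, g, hg⟩ := Module.Finite.exists_fin' A L
  set f := ad A' (A' ⊗[A] L) a' with hf
  have hloc := fun P => local_stationary hC0 ha' (rk_le g hg) P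
  have hrange : LinearMap.range (f ^ n) ≤ LinearMap.range (f ^ (n + 1)) := by
    rintro _ ⟨y, rfl⟩
    set J : Ideal A' := (LinearMap.range (f ^ (n + 1))).comap (LinearMap.toSpanSingleton A' _ ((f ^ n) y)) with hJ
    have hmem : ∀ t, t ∈ J ↔ t • (f ^ n) y ∈ LinearMap.range (f ^ (n + 1)) := fun t => Iff.rfl
    suffices h : J = ⊤ by
      have h1 := (hmem 1).1 (h ▸ Submodule.mem_top)
      rwa [one_smul] at h1
    by_contra hne
    obtain ⟨m, hm, hle⟩ := Ideal.exists_le_maximal _ hne
    obtain ⟨t, ht, htm⟩ := (hloc ⟨m, hm.isPrime⟩).1 y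
    exact ht (hle ((hmem t).2 htm))
  have hker : LinearMap.ker (f ^ (n + 1)) ≤ LinearMap.ker (f ^ n) := by
    intro y hy
    set J : Ideal A' := LinearMap.ker (LinearMap.toSpanSingleton A' _ ((f ^ n) y)) with hJ
    have hmem : ∀ t, t ∈ J ↔ t • (f ^ n) y = 0 := fun t => Iff.rfl
    suffices h : J = ⊤ by
      have h1 := (hmem 1).1 (h ▸ Submodule.mem_top)
      rwa [one_smul] at h1
    by_contra hne
    obtain ⟨m, hm, hle⟩ := Ideal.exists_le_maximal _ hne
    obtain ⟨t, ht, htm⟩ := (hloc ⟨m, hm.isPrime⟩).2 y hy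
    exact ht (hle ((hmem t).2 htm))
  have hrange2 : ∀ k y, ∃ z, (f ^ n) y = (f ^ (n + k)) z := by
    intro k
    induction k with
    | zero => exact fun y => ⟨y, rfl⟩
    | succ k ih =>
      intro y
      obtain ⟨z, hz⟩ := ih y
      obtain ⟨w, hw⟩ := hrange ⟨z, rfl⟩
      refine ⟨w, ?_⟩
      rw [hz, add_comm n k, pow_add, Module.End.mul_apply, ← hw, ← Module.End.mul_apply, ← pow_add]
      congr 2
      omega
  have hker2 : ∀ k y, (f ^ (n + k)) y = 0 → (f ^ n) y = 0 := by
    intro k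
    induction k with
    | zero => exact fun y h => h
    | succ k ih =>
      intro y h
      refine ih y ?_
      have h1 : (f ^ k) y ∈ LinearMap.ker (f ^ (n + 1)) := by
        rw [LinearMap.mem_ker, ← Module.End.mul_apply, ← pow_add, add_right_comm, add_assoc]
        exact h
      rw [pow_add, Module.End.mul_apply]
      exact hker h1
  have heng : (engel A' a').toSubmodule = LinearMap.ker (f ^ n) := by
    ext y
    rw [LieSubalgebra.mem_toSubmodule, mem_engel_iff, LinearMap.mem_ker]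
    refine ⟨fun ⟨k, hk⟩ => hker2 k y ?_, fun h => ⟨n, h⟩⟩
    rw [pow_add, Module.End.mul_apply, hk, map_zero]
  have hcompl : IsCompl (LinearMap.ker (f ^ n)) (LinearMap.range (f ^ n)) := by
    refine IsCompl.of_eq (eq_bot_iff.2 ?_) (eq_top_iff.2 ?_)
    · rintro _ ⟨hy, y, rfl⟩
      rw [SetLike.mem_coe, LinearMap.mem_ker, ← Module.End.mul_apply, ← pow_add] at hy
      exact (Submodule.mem_bot _).2 (hker2 n y hy)
    · intro y _
      obtain ⟨z, hz⟩ := hrange2 n y
      refine Submodule.mem_sup.2 ⟨y - (f ^ n) z, ?_, (f ^ n) z, ⟨z, rfl⟩, sub_add_cancel _ _⟩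
      rw [LinearMap.mem_ker, map_sub, ← Module.End.mul_apply, ← pow_add, hz, sub_self]
  refine ⟨ha', (exists_cartanRel_iff ha').2 ⟨?_, fun z hz => ?_, fun y => ?_⟩⟩
  · rw [heng]
    haveI : Module.Projective A' (LinearMap.range (f ^ n)) :=
      Module.Projective.of_split (LinearMap.range (f ^ n)).subtype
        (Submodule.projectionOnto _ _ hcompl.symm)
        (LinearMap.ext fun x => Submodule.projectionOnto_apply_left hcompl.symm x)
    exact Module.Projective.of_equiv (Submodule.quotientEquivOfIsCompl _ _ hcompl).symm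
  · rw [mem_engel_iff] at hz ⊢
    obtain ⟨k, hk⟩ := hz
    exact ⟨k + 1, by rw [pow_succ, Module.End.mul_apply]; exact hk⟩
  · obtain ⟨z, hz⟩ := hrange2 1 y
    refine ⟨z, (mem_engel_iff A' a' _).2 ⟨n, ?_⟩⟩
    rw [map_sub, show ⁅a', z⁆ = f z from rfl, ← Module.End.mul_apply, ← hf, ← pow_succ, hz, sub_self]

end

end Groth.Agent.H66.Cartan
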